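import Mathlib.AlgebraicGeometry.Morphisms.SchemeTheoreticallyDominant
import Mathlib.AlgebraicGeometry.Morphisms.Immersion

/-!
Scheme-theoretic dominance of morphisms from reduced schemes (no quasi-compactness).
-/

set_option autoImplicit false
universe u

open CategoryTheory CategoryTheory.Limits AlgebraicGeometry TopologicalSpace

namespace K586.Reduced

variable {X Y : Scheme.{u}}

open Scheme.IdealSheafData in
lemma vanishingIdeal_le_ker [IsReduced X] (f : X ⟶ Y) (Z : Closeds Y) (hZ : Set.range f ⊆ Z) :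
    vanishingIdeal Z ≤ f.ker := by
  rw [Scheme.Hom.ker, le_ofIdeals_iff]
  intro U s hs
  rw [RingHom.mem_ker]
  rw [← basicOpen_eq_bot_iff, ← Scheme.preimage_basicOpen, eq_bot_iff]
  intro x hx
  have hx1 : f x ∈ Y.basicOpen s := hx
  have hxU : f x ∈ (U : Y.Opens) := Y.basicOpen_le s hx1
  have hsupp : f x ∈ ((vanishingIdeal Z).support : Set Y) := by
    rw [coe_support_vanishingIdeal]
    exact hZ ⟨x, rfl⟩
  have h2 : f x ∈ Y.zeroLocus (U := U.1) ((vanishingIdeal Z).ideal U : Set _) ∩ (U : Set Y) := by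
    rw [← coe_support_inter]
    exact ⟨hsupp, hxU⟩
  have h3 := h2.1
  rw [Scheme.mem_zeroLocus_iff] at h3
  exact (h3 s hs hx1).elim

/-- A scheme-theoretically dominant morphism from a reduced scheme has reduced target. -/
lemma isReduced_of_ker_eq_bot [IsReduced X] (f : X ⟶ Y) (hf : f.ker = ⊥) : IsReduced Y := by
  have h1 : Y.nilradical = ⊥ := by
    rw [eq_bot_iff, ← hf, ← Scheme.IdealSheafData.vanishingIdeal_top]
    exact vanishingIdeal_le_ker f ⊤ (fun _ _ => trivial)
  have h2 : ∀ U : Y.affineOpens, _root_.IsReduced Γ(Y, U) := by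
    intro U
    have h3 : (Y.nilradical).ideal U = ⊥ := by rw [h1]; rfl
    rw [← nilradical_eq_bot_iff]
    exact h3
  refine ⟨fun U => ⟨fun s hs => ?_⟩⟩
  refine Y.IsSheaf.section_ext fun x hx => ?_
  obtain ⟨_, ⟨V, hV, rfl⟩, hxV, hVU⟩ := Y.isBasis_affineOpens.exists_subset_of_mem_open hx U.2
  refine ⟨V, hVU, hxV, ?_⟩
  have := h2 ⟨V, hV⟩
  rw [map_zero]
  exact (hs.map (Y.presheaf.map (homOfLE hVU).op).hom).eq_zero

/-- A scheme-theoretically dominant morphism from a reduced scheme is dominant. -/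
lemma isDominant_of_ker_eq_bot [IsReduced X] (f : X ⟶ Y) (hf : f.ker = ⊥) : IsDominant f := by
  have h1 := vanishingIdeal_le_ker f ⟨closure (Set.range f), isClosed_closure⟩ subset_closure
  rw [hf, le_bot_iff] at h1
  have h2 := congrArg (fun I : Y.IdealSheafData => (I.support : Set Y)) h1
  simp only [Scheme.IdealSheafData.coe_support_vanishingIdeal, Scheme.IdealSheafData.support_bot,
    Closeds.coe_top] at h2
  exact ⟨dense_iff_closure_eq.2 h2⟩

lemma ker_homOfLE_inf_eq_bot [IsReduced Y] (U W : Y.Opens) (hU : Dense (U : Set Y)) :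
    IsSchemeTheoreticallyDominant (Y.homOfLE (inf_le_right : U ⊓ W ≤ W)) := by
  have hd : IsDominant (Y.homOfLE (inf_le_right : U ⊓ W ≤ W)) := by
    refine ⟨?_⟩
    intro w
    rw [mem_closure_iff]
    intro O hO hwO
    obtain ⟨O', hO', rfl⟩ := isOpen_induced_iff.1 hO
    obtain ⟨z, hz1, hz2⟩ := hU.inter_open_nonempty (O' ∩ (W : Set Y)) (hO'.inter W.2) ⟨w.1, hwO, w.2⟩
    refine ⟨⟨z, hz1.2⟩, hz1.1, ⟨⟨z, hz2, hz1.2⟩, ?_⟩⟩
    exact Subtype.ext (by rw [Scheme.homOfLE_apply])
  exact IsSchemeTheoreticallyDominant.of_isDominant _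

/-- Pushforward of ideal sheaves along a closed immersion is injective (kernel form). -/
lemma eq_bot_of_map_eq_ker (i : X ⟶ Y) [IsClosedImmersion i] (I : X.IdealSheafData)
    (h : I.map i = i.ker) : I = ⊥ := by
  have h1 : IsIso I.subschemeι := by
    refine IsClosedImmersion.isIso_of_ker_eq (I.subschemeι ≫ i) i I.subschemeι rfl ?_
    exact h
  rw [← I.ker_subschemeι]
  exact Scheme.Hom.ker_eq_bot _

/-- the morphism to the scheme theoretic image is scheme-theoretically dominant -/
lemma isSchemeTheoreticallyDominant_toImage (f : X ⟶ Y) :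
    IsSchemeTheoreticallyDominant f.toImage := by
  rw [isSchemeTheoreticallyDominant_iff]
  apply eq_bot_of_map_eq_ker f.imageι
  rw [Scheme.IdealSheafData.map_ker, Scheme.Hom.toImage_imageι]
  exact (Scheme.IdealSheafData.ker_subschemeι _).symm

/-- A scheme-theoretically dominant immersion from a reduced scheme is an open immersion. -/
lemma isOpenImmersion_of_ker_eq_bot [IsReduced X] (g : X ⟶ Y) [IsImmersion g] (hg : g.ker = ⊥) :
    IsOpenImmersion g := by
  have hY : IsReduced Y := isReduced_of_ker_eq_bot g hg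
  have hd : IsDominant g := isDominant_of_ker_eq_bot g hg
  have hs : Surjective g.liftCoborder := by
    constructor
    have hcl : IsClosed (Set.range g.liftCoborder) := g.liftCoborder.isClosedEmbedding.isClosed_range
    have hden : Dense (Set.range g.liftCoborder) := by
      intro w
      rw [mem_closure_iff]
      intro O hO hwO
      obtain ⟨O', hO', rfl⟩ := isOpen_induced_iff.1 hO
      obtain ⟨z, hz1, ⟨x, hx⟩⟩ := hd.1.inter_open_nonempty (O' ∩ (g.coborderRange : Set Y))
        (hO'.inter g.coborderRange.2) ⟨w.1, hwO, w.2⟩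
      refine ⟨g.liftCoborder x, ?_, ⟨x, rfl⟩⟩
      have h1 : (g.coborderRange.ι (g.liftCoborder x)) = g x := by
        rw [← Scheme.Hom.comp_apply, g.liftCoborder_ι]
      have h2 : (g.liftCoborder x).1 = g x := h1
      show (g.liftCoborder x).1 ∈ O'
      rw [h2, hx]
      exact hz1.1
    rw [← Set.range_eq_univ, ← hcl.closure_eq]
    exact hden.closure_eq
  have hiso : IsIso g.liftCoborder := isIso_of_isClosedImmersion_of_surjective g.liftCoborder
  rw [← g.liftCoborder_ι]
  infer_instance

end K586.Reduced
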